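import Cfsg.Agent.H424.Spr.Two

/-!
# 3/2-generation: three (or more) overgroups (helper938, for helper862's S3938)

* `spr_of_moving` : the general form.  `s` has finitely many maximal overgroups `𝓜`; every invariant proper subgroup
  through `s` lies in an invariant member of `𝓜`; and whenever `a` moves `U ∈ 𝓜` some `y ∈ U` is such that `a` moves all
  `y M y⁻¹`, `M ∈ 𝓜`, `M ≠ U`.
* `spr_of_three` : three pairwise non-conjugate overgroups `U₁, U₂, U₃` with `U i ⊓ U j ≤ U k` (all automorphisms, also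
  those which permute the three classes: triality).
* `spr_of_three'` : `U₂ ⊓ U₃ ≤ U₁`, no automorphism carries `U₁` to a conjugate of `U₂` or `U₃` (`U₂`, `U₃` may be conjugate).
* `_up` versions for a surjection `f : G →* L`.
-/

set_option autoImplicit false
set_option linter.unusedSectionVars false

namespace Cfsg.Agent.H938.Spr

open scoped Pointwise
open Cfsg.Agent.H424.Spr

variable {L : Type*} [Group L] [IsSimpleGroup L] [Finite L]

theorem smul_c_conj (a : MulAut L) (y : L) (M : Subgroup L) :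
    (c y⁻¹ * a * c y) • M = c y⁻¹ • (a • (c y • M)) := by
  rw [mul_smul, mul_smul]

theorem c_inv_smul (y : L) (M : Subgroup L) : c y⁻¹ • (c y • M) = M := by
  rw [smul_smul, ← map_mul, inv_mul_cancel, map_one, one_smul]

theorem c_smul_inv (y : L) (M : Subgroup L) : c y • (c y⁻¹ • M) = M := by
  rw [smul_smul, ← map_mul, mul_inv_cancel, map_one, one_smul]

theorem fix_conj_iff (a : MulAut L) (y : L) (M : Subgroup L) :
    (c y⁻¹ * a * c y) • M = M ↔ a • (c y • M) = c y • M := by
  rw [smul_c_conj]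
  constructor
  · intro h
    rw [← c_smul_inv y (a • (c y • M)), h]
  · intro h
    rw [h, c_inv_smul]

/-- an invariant proper subgroup is stable -/
theorem smul_eq_of_inv {a : MulAut L} {K : Subgroup L} (h : ∀ k ∈ K, a k ∈ K) : a • K = K := by
  apply SetLike.coe_injective
  apply Set.eq_of_subset_of_ncard_le _ _ (Set.toFinite _)
  · rintro _ ⟨k, hk, rfl⟩
    exact h k hk
  · have : ((a • K : Subgroup L) : Set L) = a '' (K : Set L) := rfl
    rw [this, Set.ncard_image_of_injective _ a.injective]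

/-- **The general form.** -/
theorem spr_of_moving (hna : ∃ x y : L, x * y ≠ y * x) {s : L} {𝓜 : Set (Subgroup L)} {U : Subgroup L}
    (hU : IsCoatom U)
    (hP : ∀ (a : MulAut L) (K : Subgroup L), s ∈ K → K ≠ ⊤ → (∀ k ∈ K, a k ∈ K) → ∃ M ∈ 𝓜, a • M = M)
    (hH : ∀ a : MulAut L, a • U ≠ U → ∃ y ∈ U, ∀ M ∈ 𝓜, M ≠ U → a • (c y • M) ≠ c y • M) : Spr L := by
  intro a ha
  by_contra hcon
  push Not at hcon
  apply ha
  refine eq_one_of_fix hna hU fun y₀ => ?_
  by_contra hmv
  obtain ⟨y, hy, hy2⟩ := hH (c y₀⁻¹ * a * c y₀) (fun h => hmv ((fix_conj_iff a y₀ U).1 h))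
  -- the bad subgroup at `y₀ * y`
  obtain ⟨K, hK1, hK2, hK3⟩ := hcon (c (y₀ * y) s)
  set b : MulAut L := c y⁻¹ * (c y₀⁻¹ * a * c y₀) * c y with hb
  obtain ⟨M, hM, hbM⟩ := hP b (c (y₀ * y)⁻¹ • K) (by
    have h1 := mem_smul (c (y₀ * y)⁻¹) hK1
    rwa [← MulAut.mul_apply, ← map_mul, inv_mul_cancel, map_one, MulAut.one_apply] at h1) (by
    intro h
    apply hK3
    rw [← c_smul_inv (y₀ * y) K, h]
    rw [eq_top_iff]
    intro z _
    have h1 := mem_smul (c (y₀ * y)) (Subgroup.mem_top (c (y₀ * y)⁻¹ z))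
    rwa [← MulAut.mul_apply, ← map_mul, mul_inv_cancel, map_one, MulAut.one_apply] at h1) (by
    rintro _ ⟨k, hk, rfl⟩
    have h1 : b (c (y₀ * y)⁻¹ k) = c (y₀ * y)⁻¹ (a k) := by
      have h2 : b * c (y₀ * y)⁻¹ = c (y₀ * y)⁻¹ * a := by
        rw [hb]
        simp only [map_mul, map_inv, mul_inv_rev]
        group
      exact congrArg (fun f : MulAut L => f k) h2
    change b (c (y₀ * y)⁻¹ k) ∈ c (y₀ * y)⁻¹ • K
    rw [h1]
    exact mem_smul _ (hK2 k hk))
  have h3 := (fix_conj_iff (c y₀⁻¹ * a * c y₀) y M).1 hbM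
  by_cases hMU : M = U
  · subst hMU
    rw [c_smul_self hy] at h3
    exact hmv ((fix_conj_iff a y₀ M).1 h3)
  · exact hy2 M hM hMU h3

/-- the maximal overgroups of an invariant subgroup are permuted -/
theorem smul_mem_over {s : L} {𝓜 : Set (Subgroup L)} (hco : ∀ N : Subgroup L, IsCoatom N → s ∈ N → N ∈ 𝓜)
    {a : MulAut L} {K M : Subgroup L} (hs : s ∈ K) (hinv : ∀ k ∈ K, a k ∈ K) (hM : IsCoatom M) (hKM : K ≤ M) :
    K ≤ a • M ∧ a • M ∈ 𝓜 := by
  have h1 : K ≤ a • M := by
    rw [← smul_eq_of_inv hinv]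
    exact Subgroup.pointwise_smul_le_pointwise_smul_iff.2 hKM
  exact ⟨h1, hco _ (coatom_smul a hM) (h1 hs)⟩

/-- **Three overgroups, `U₁` of a different type.** -/
theorem spr_of_three' (hna : ∃ x y : L, x * y ≠ y * x) {s : L} {U₁ U₂ U₃ : Subgroup L} (h1 : IsCoatom U₁)
    (h : ∀ K : Subgroup L, s ∈ K → K ≠ ⊤ → K ≤ U₁ ∨ K ≤ U₂ ∨ K ≤ U₃) (h2 : U₂ ≠ ⊤) (h3 : U₃ ≠ ⊤)
    (h23 : U₂ ⊓ U₃ ≤ U₁)
    (hno : ∀ a : MulAut L, a • U₁ ≠ U₂ ∧ a • U₁ ≠ U₃)
    (hH : ∀ a : MulAut L, a • U₁ ≠ U₁ → ∃ y ∈ U₁, a • (c y • U₂) ≠ c y • U₂ ∧ a • (c y • U₃) ≠ c y • U₃) :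
    Spr L := by
  have hco : ∀ N : Subgroup L, IsCoatom N → s ∈ N → N ∈ ({U₁, U₂, U₃} : Set (Subgroup L)) := by
    intro N hN hsN
    rcases h N hsN hN.1 with g | g | g
    · exact Or.inl ((hN.le_iff.1 g).resolve_left h1.1).symm
    · exact Or.inr (Or.inl ((hN.le_iff.1 g).resolve_left h2).symm)
    · exact Or.inr (Or.inr ((hN.le_iff.1 g).resolve_left h3).symm)
  refine spr_of_moving hna (s := s) (𝓜 := {U₁, U₂, U₃}) h1 (fun a K hs hK hinv => ?_) (fun a ha => ?_)
  · have key : K ≤ U₁ → ∃ M ∈ ({U₁, U₂, U₃} : Set (Subgroup L)), a • M = M := by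
      intro g
      refine ⟨U₁, Or.inl rfl, ?_⟩
      rcases (smul_mem_over hco hs hinv h1 g).2 with g1 | g1 | g1
      · exact g1
      · exact absurd g1 (hno a).1
      · exact absurd g1 (hno a).2
    by_cases k1 : K ≤ U₁
    · exact key k1
    obtain ⟨N, hN, hKN⟩ := (eq_top_or_exists_le_coatom K).resolve_left hK
    have hN' := hco N hN (hKN hs)
    have hN2 := smul_mem_over hco hs hinv hN hKN
    rcases hN' with g | g | g
    · rw [g] at hKN
      exact absurd hKN k1
    · refine ⟨N, Or.inr (Or.inl g), ?_⟩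
      rcases hN2.2 with g1 | g1 | g1
      · rw [g1] at hN2
        exact absurd hN2.1 k1
      · rw [g1, g]
      · exact absurd ((le_inf (g ▸ hKN) (g1 ▸ hN2.1)).trans h23) k1
    · refine ⟨N, Or.inr (Or.inr g), ?_⟩
      rcases hN2.2 with g1 | g1 | g1
      · rw [g1] at hN2
        exact absurd hN2.1 k1
      · exact absurd ((le_inf (g1 ▸ hN2.1) (g ▸ hKN)).trans h23) k1
      · rw [g1, g]
  · obtain ⟨y, hy, g2, g3⟩ := hH a ha
    refine ⟨y, hy, fun M hM hne => ?_⟩
    rcases hM with g | g | g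
    · exact absurd g hne
    · rw [g]; exact g2
    · rw [g]; exact g3

/-- **The two-lemma**: `a` cannot fix one of `y A y⁻¹`, `y B y⁻¹` for all `y` (`A`, `B` coatoms, possibly conjugate). -/
theorem eq_one_of_two (hna : ∃ x y : L, x * y ≠ y * x) {M₁ M₂ : Subgroup L} (h1 : IsCoatom M₁) (h2 : IsCoatom M₂)
    {a : MulAut L} (alt' : ∀ y : L, a • (c y • M₁) = c y • M₁ ∨ a • (c y • M₂) = c y • M₂) : a = 1 := by
  refine eq_one_of_fix hna h1 fun y₀ => ?_
  by_contra hmv
  set A := c y₀ • M₁ with hA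
  set B := c y₀ • M₂ with hB
  have hAc : IsCoatom A := coatom_smul _ h1
  have hBc : IsCoatom B := coatom_smul _ h2
  have fixB : ∀ m ∈ A, a • (c m • B) = c m • B := by
    intro m hm
    have h3 := alt' (m * y₀)
    rw [map_mul, mul_smul, mul_smul, ← hA, ← hB, c_smul_self hm] at h3
    exact h3.resolve_left hmv
  let I : Subgroup L := ⨅ m : A, c (m : L) • B
  have hI : ∀ x, x ∈ I ↔ ∀ m ∈ A, x ∈ c m • B := by
    intro x
    simp only [I, Subgroup.mem_iInf, Subtype.forall]
  have hin : ∀ m ∈ A, m⁻¹ * a m ∈ I := by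
    intro m hm
    rw [hI]
    intro m' hm'
    have h3 : c (a m) • (c m' • B) = c m • (c m' • B) := by
      have h4 := fixB (m * m') (mul_mem hm hm')
      rw [map_mul, mul_smul, a_smul_c, fixB m' hm'] at h4
      exact h4
    have h5 : c (m⁻¹ * a m) • (c m' • B) = c m' • B := by
      rw [map_mul, mul_smul, h3, smul_smul, ← map_mul, inv_mul_cancel, map_one, one_smul]
    have h6 := mem_normalizer_of_smul h5
    rwa [normalizer_coatom hna (coatom_smul _ hBc)] at h6
  by_cases hI0 : I = ⊥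
  · apply hmv
    have h3 : ∀ m ∈ A, a m = m := by
      intro m hm
      have h4 := hin m hm
      rw [hI0, Subgroup.mem_bot] at h4
      exact (inv_mul_eq_one.1 h4).symm
    apply le_antisymm
    · rintro _ ⟨m, hm, rfl⟩
      change a m ∈ A
      rw [h3 m hm]
      exact hm
    · intro m hm
      have h4 := mem_smul a hm
      rwa [h3 m hm] at h4
  · have hle : A ≤ Subgroup.normalizer (I : Set L) := by
      intro m hm
      apply mem_normalizer_of_smul
      apply le_antisymm
      · rintro _ ⟨k, hk, rfl⟩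
        have hk' : k ∈ I := hk
        rw [hI] at hk'
        change c m k ∈ I
        rw [hI]
        intro m' hm'
        have h3 := mem_smul (c m) (hk' (m⁻¹ * m') (mul_mem (inv_mem hm) hm'))
        rw [smul_smul, ← map_mul, mul_inv_cancel_left] at h3
        exact h3
      · intro k hk
        have hk' := hk
        rw [hI] at hk'
        have h4 : c m⁻¹ k ∈ I := by
          rw [hI]
          intro m' hm'
          have h3 := mem_smul (c m⁻¹) (hk' (m * m') (mul_mem hm hm'))
          rw [smul_smul, ← map_mul, inv_mul_cancel_left] at h3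
          exact h3
        have h5 := mem_smul (c m) h4
        rw [← MulAut.mul_apply, ← map_mul, mul_inv_cancel, map_one, MulAut.one_apply] at h5
        exact h5
    have hnt : Subgroup.normalizer (I : Set L) ≠ ⊤ := by
      intro h3
      have h4 : I.Normal := Subgroup.normalizer_eq_top_iff.1 h3
      rcases h4.eq_bot_or_eq_top with h5 | h5
      · exact hI0 h5
      · apply hBc.1
        rw [eq_top_iff, ← h5]
        intro k hk
        have h6 := (hI k).1 hk 1 (one_mem _)
        rwa [map_one, one_smul] at h6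
    have hNI : Subgroup.normalizer (I : Set L) = A := (hAc.le_iff.1 hle).resolve_left hnt
    have haI : ∀ k ∈ I, a k ∈ I := by
      intro k hk
      rw [hI] at hk ⊢
      intro m hm
      have h3 := mem_smul a (hk m hm)
      rwa [fixB m hm] at h3
    have haI' : a • I = I := smul_eq_of_inv haI
    apply hmv
    have h3 : a • A ≤ A := by
      rintro _ ⟨m, hm, rfl⟩
      change a m ∈ A
      rw [← hNI]
      apply mem_normalizer_of_smul
      have h4 : c m • I = I := by
        have h5 : m ∈ Subgroup.normalizer (I : Set L) := by rw [hNI]; exact hm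
        exact c_smul_of_normalizer h5
      conv_lhs => rw [← haI']
      rw [← a_smul_c, h4, haI']
    exact ((coatom_smul a hAc).le_iff.1 h3).resolve_left hAc.1 |>.symm

/-- if `a` maps a conjugate of `A` to a conjugate of `B` then it maps every conjugate of `A` to one of `B` -/
theorem spread (a : MulAut L) {A B : Subgroup L} {y z : L} (g : a • (c y • A) = c z • B) (w : L) :
    ∃ v : L, a • (c w • A) = c v • B := by
  refine ⟨a (w * y⁻¹) * z, ?_⟩
  have e : c w • A = c (w * y⁻¹) • (c y • A) := by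
    rw [smul_smul, ← map_mul, inv_mul_cancel_right]
  rw [e, a_smul_c, g, smul_smul, ← map_mul]

theorem conj_of_eq {A B : Subgroup L} {y z : L} (g : c y • A = c z • B) : c (z⁻¹ * y) • A = B := by
  rw [map_mul, mul_smul, g, c_inv_smul]

private theorem perm3 : ∀ σ : Fin 3 → Fin 3, Function.Injective σ → (∃ i, σ i ≠ i) →
    (∃ k, σ k = k ∧ ∀ i, σ i = i → i = k) ∨ ∀ i, σ i ≠ i := by
  decide

/-- a class of the triple is moved -/
theorem no_moved (hna : ∃ x y : L, x * y ≠ y * x) {a : MulAut L} (ha : a ≠ 1) (U : Fin 3 → Subgroup L)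
    (hc : ∀ i, IsCoatom (U i)) (hn : ∀ i j, i ≠ j → ∀ y : L, c y • U i ≠ U j)
    (alt : ∀ y : L, (∃ i, a • (c y • U i) = c y • U i) ∨ ∀ i, ∃ j, a • (c y • U i) = c y • U j)
    (hT : ∃ i, ∀ v : L, a • U i ≠ c v • U i) : False := by
  have func : ∀ {i j j' : Fin 3} {y z y' z' : L}, a • (c y • U i) = c z • U j → a • (c y' • U i) = c z' • U j' →
      j = j' := by
    intro i j j' y z y' z' g g'
    obtain ⟨v, hv⟩ := spread a g y'
    by_contra hne
    exact hn j j' hne _ (conj_of_eq (hv.symm.trans g'))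
  have e1 : ∀ M : Subgroup L, c (1 : L) • M = M := fun M => by rw [map_one, one_smul]
  obtain ⟨i₀, hi₀⟩ := hT
  have hi₀' : ∀ y z : L, a • (c y • U i₀) ≠ c z • U i₀ := by
    intro y z g
    obtain ⟨v, hv⟩ := spread a g 1
    rw [e1] at hv
    exact hi₀ v hv
  by_cases hperm : ∃ y₁ : L, ∀ i, ∃ j, a • (c y₁ • U i) = c y₁ • U j
  · obtain ⟨y₁, hy₁⟩ := hperm
    choose σ hσ using hy₁
    have hinj : Function.Injective σ := by
      intro i j hij
      have g1 : a • (c y₁ • U i) = a • (c y₁ • U j) := by rw [hσ i, hσ j, hij]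
      have g2 : c y₁ • U i = c y₁ • U j := MulAction.injective a g1
      by_contra hne
      exact hn i j hne _ (conj_of_eq g2)
    rcases perm3 σ hinj ⟨i₀, fun g => hi₀' y₁ y₁ (by rw [hσ i₀, g])⟩ with ⟨k, hk, huniq⟩ | hfree
    · apply ha
      refine eq_one_of_fix hna (hc k) fun y => ?_
      rcases alt y with ⟨i, hi⟩ | g
      · have g1 : σ i = i := func (hσ i) hi
        rw [← huniq i g1]
        exact hi
      · obtain ⟨j, hj⟩ := g k
        have g1 : σ k = j := func (hσ k) hj
        rw [hk] at g1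
        rw [hj, g1]
    · have all : ∀ y : L, a • (c y • U 0) = c y • U (σ 0) := by
        intro y
        rcases alt y with ⟨i, hi⟩ | g
        · exact absurd (func (hσ i) hi) (hfree i)
        · obtain ⟨j, hj⟩ := g 0
          rw [hj, func (hσ 0) hj]
      have g0 := all 1
      rw [e1, e1] at g0
      have hle : U 0 ≤ U (σ 0) := by
        intro m hm
        have g1 := all m
        rw [c_smul_self hm, g0] at g1
        have g2 := mem_normalizer_of_smul g1.symm
        rwa [normalizer_coatom hna (hc _)] at g2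
      have g3 := ((hc 0).le_iff.1 hle).resolve_left (hc (σ 0)).1
      exact hn 0 (σ 0) (hfree 0).symm 1 (by rw [e1]; exact g3.symm)
  · push Not at hperm
    have alt2 : ∀ y : L, ∃ i, i ≠ i₀ ∧ a • (c y • U i) = c y • U i := by
      intro y
      rcases alt y with ⟨i, hi⟩ | g
      · refine ⟨i, ?_, hi⟩
        rintro rfl
        exact hi₀' y y hi
      · obtain ⟨i, hi⟩ := hperm y
        obtain ⟨j, hj⟩ := g i
        exact absurd hj (hi j)
    obtain ⟨j, k, hjk⟩ : ∃ j k : Fin 3, ∀ i, i ≠ i₀ → i = j ∨ i = k :=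
      (by decide : ∀ i₀ : Fin 3, ∃ j k : Fin 3, ∀ i, i ≠ i₀ → i = j ∨ i = k) i₀
    apply ha
    refine eq_one_of_two hna (hc j) (hc k) fun y => ?_
    obtain ⟨i, hi, g⟩ := alt2 y
    rcases hjk i hi with rfl | rfl
    · exact Or.inl g
    · exact Or.inr g

/-- **Three overgroups with one triple intersection** (all automorphisms, triality included): the moving condition
is only needed for the automorphisms which preserve the three classes. -/
theorem spr_of_three (hna : ∃ x y : L, x * y ≠ y * x) {s : L} {U₁ U₂ U₃ : Subgroup L} (h1 : IsCoatom U₁)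
    (h2 : IsCoatom U₂) (h3 : IsCoatom U₃)
    (h : ∀ K : Subgroup L, s ∈ K → K ≠ ⊤ → K ≤ U₁ ∨ K ≤ U₂ ∨ K ≤ U₃)
    (h12 : U₁ ⊓ U₂ ≤ U₃) (h13 : U₁ ⊓ U₃ ≤ U₂) (h23 : U₂ ⊓ U₃ ≤ U₁)
    (n12 : ∀ y : L, c y • U₁ ≠ U₂) (n13 : ∀ y : L, c y • U₁ ≠ U₃) (n23 : ∀ y : L, c y • U₂ ≠ U₃)
    (hH : ∀ a : MulAut L, (∃ y : L, a • U₁ = c y • U₁) → (∃ y : L, a • U₂ = c y • U₂) →
      (∃ y : L, a • U₃ = c y • U₃) → a • U₁ ≠ U₁ →
      ∃ y ∈ U₁, a • (c y • U₂) ≠ c y • U₂ ∧ a • (c y • U₃) ≠ c y • U₃) :
    Spr L := by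
  have hco : ∀ N : Subgroup L, IsCoatom N → s ∈ N → N ∈ ({U₁, U₂, U₃} : Set (Subgroup L)) := by
    intro N hN hsN
    rcases h N hsN hN.1 with g | g | g
    · exact Or.inl ((hN.le_iff.1 g).resolve_left h1.1).symm
    · exact Or.inr (Or.inl ((hN.le_iff.1 g).resolve_left h2.1).symm)
    · exact Or.inr (Or.inr ((hN.le_iff.1 g).resolve_left h3.1).symm)
  -- conjugacy is an equivalence relation
  have csymm : ∀ {A B : Subgroup L} {y : L}, c y • A = B → c y⁻¹ • B = A := by
    intro A B y g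
    rw [← g, c_inv_smul]
  have n21 : ∀ y : L, c y • U₂ ≠ U₁ := fun y g => n12 y⁻¹ (csymm g)
  have n31 : ∀ y : L, c y • U₃ ≠ U₁ := fun y g => n13 y⁻¹ (csymm g)
  have n32 : ∀ y : L, c y • U₃ ≠ U₂ := fun y g => n23 y⁻¹ (csymm g)
  -- if a maps a conjugate of A to a conjugate of B then all
  have spread : ∀ (a : MulAut L) {A B : Subgroup L} {y z : L}, a • (c y • A) = c z • B → ∀ w : L,
      ∃ v : L, a • (c w • A) = c v • B := by
    intro a A B y z g w
    refine ⟨a (w * y⁻¹) * z, ?_⟩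
    have e : c w • A = c (w * y⁻¹) • (c y • A) := by
      rw [smul_smul, ← map_mul, inv_mul_cancel_right]
    rw [e, a_smul_c, g, smul_smul, ← map_mul]
  intro a ha
  by_contra hcon
  push Not at hcon
  -- the alternatives at `y`
  have alt : ∀ y : L, ∃ M ∈ ({U₁, U₂, U₃} : Set (Subgroup L)), a • (c y • M) = c y • M ∨
      ((∀ N ∈ ({U₁, U₂, U₃} : Set (Subgroup L)), ∃ N' ∈ ({U₁, U₂, U₃} : Set (Subgroup L)),
        a • (c y • N) = c y • N')) := by
    intro y
    obtain ⟨K, hK1, hK2, hK3⟩ := hcon (c y s)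
    set b : MulAut L := c y⁻¹ * a * c y with hb
    set K' : Subgroup L := c y⁻¹ • K with hK'
    have hs' : s ∈ K' := by
      have g := mem_smul (c y⁻¹) hK1
      rwa [← MulAut.mul_apply, ← map_mul, inv_mul_cancel, map_one, MulAut.one_apply] at g
    have hinv' : ∀ k ∈ K', b k ∈ K' := by
      rintro _ ⟨k, hk, rfl⟩
      have g1 : b (c y⁻¹ k) = c y⁻¹ (a k) := by
        have g2 : b * c y⁻¹ = c y⁻¹ * a := by
          rw [hb]
          simp only [map_inv]
          group
        exact congrArg (fun f : MulAut L => f k) g2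
      change b (c y⁻¹ k) ∈ c y⁻¹ • K
      rw [g1]
      exact mem_smul _ (hK2 k hk)
    have hne' : K' ≠ ⊤ := by
      intro g
      apply hK3
      rw [← c_smul_inv y K, ← hK', g]
      rw [eq_top_iff]
      intro z _
      have g1 := mem_smul (c y) (Subgroup.mem_top (c y⁻¹ z))
      rwa [← MulAut.mul_apply, ← map_mul, mul_inv_cancel, map_one, MulAut.one_apply] at g1
    obtain ⟨N, hN, hKN⟩ := (eq_top_or_exists_le_coatom K').resolve_left hne'
    have hN' := hco N hN (hKN hs')
    have hN2 := smul_mem_over hco hs' hinv' hN hKN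
    by_cases hfix : b • N = N
    · exact ⟨N, hN', Or.inl ((fix_conj_iff a y N).1 hfix)⟩
    · refine ⟨N, hN', Or.inr ?_⟩
      -- `K'` lies in two, hence in all three
      have hall : K' ≤ U₁ ∧ K' ≤ U₂ ∧ K' ≤ U₃ := by
        have k1 := hKN
        have k2 := hN2.1
        rcases hN' with g | g | g <;> rcases hN2.2 with g' | g' | g' <;>
          rw [g] at k1 hfix k2 g' <;> rw [g'] at k2 hfix
        · exact absurd rfl hfix
        · exact ⟨k1, k2, (le_inf k1 k2).trans h12⟩
        · exact ⟨k1, (le_inf k1 k2).trans h13, k2⟩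
        · exact ⟨k2, k1, (le_inf k2 k1).trans h12⟩
        · exact absurd rfl hfix
        · exact ⟨(le_inf k1 k2).trans h23, k1, k2⟩
        · exact ⟨k2, (le_inf k2 k1).trans h13, k1⟩
        · exact ⟨(le_inf k2 k1).trans h23, k2, k1⟩
        · exact absurd rfl hfix
      intro N₁ hN₁
      have hcN₁ : IsCoatom N₁ := by
        rcases hN₁ with g | g | g <;> rw [g] <;> assumption
      have hKN₁ : K' ≤ N₁ := by
        rcases hN₁ with g | g | g <;> rw [g]
        · exact hall.1
        · exact hall.2.1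
        · exact hall.2.2
      refine ⟨b • N₁, (smul_mem_over hco hs' hinv' hcN₁ hKN₁).2, ?_⟩
      rw [hb, smul_c_conj, c_smul_inv]
  -- the types
  by_cases hT : (∃ v : L, a • U₁ = c v • U₁) ∧ (∃ v : L, a • U₂ = c v • U₂) ∧ (∃ v : L, a • U₃ = c v • U₃)
  · -- all classes preserved
    obtain ⟨⟨v₁, t1⟩, ⟨v₂, t2⟩, ⟨v₃, t3⟩⟩ := hT
    have e1 : ∀ M : Subgroup L, c (1 : L) • M = M := fun M => by rw [map_one, one_smul]
    have s1 := spread a (A := U₁) (B := U₁) (y := 1) (z := v₁) (by rw [e1]; exact t1)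
    have s2 := spread a (A := U₂) (B := U₂) (y := 1) (z := v₂) (by rw [e1]; exact t2)
    have s3 := spread a (A := U₃) (B := U₃) (y := 1) (z := v₃) (by rw [e1]; exact t3)
    have cc : ∀ {A B : Subgroup L} {y z : L}, c y • A = c z • B → c (z⁻¹ * y) • A = B := by
      intro A B y z g
      rw [map_mul, mul_smul, g, c_inv_smul]
    have alt' : ∀ y : L, a • (c y • U₁) = c y • U₁ ∨ a • (c y • U₂) = c y • U₂ ∨
        a • (c y • U₃) = c y • U₃ := by
      intro y
      obtain ⟨M, hM, g | g⟩ := alt y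
      · rcases hM with g' | g' | g' <;> rw [g'] at g
        · exact Or.inl g
        · exact Or.inr (Or.inl g)
        · exact Or.inr (Or.inr g)
      · left
        obtain ⟨N', hN', g'⟩ := g U₁ (Or.inl rfl)
        obtain ⟨v, hv⟩ := s1 y
        rcases hN' with g'' | g'' | g'' <;> rw [g''] at g'
        · exact g'
        · rw [hv] at g'; exact absurd (cc g') (n12 _)
        · rw [hv] at g'; exact absurd (cc g') (n13 _)
    apply ha
    refine eq_one_of_fix hna h1 fun y₀ => ?_
    by_contra hmv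
    set b : MulAut L := c y₀⁻¹ * a * c y₀ with hb
    have hb1 : ∀ {A : Subgroup L}, (∀ w : L, ∃ v : L, a • (c w • A) = c v • A) → ∃ v : L, b • A = c v • A := by
      intro A g
      obtain ⟨v, hv⟩ := g y₀
      refine ⟨y₀⁻¹ * v, ?_⟩
      rw [hb, smul_c_conj, hv, smul_smul, ← map_mul]
    obtain ⟨y, hy, g2, g3⟩ := hH b (hb1 s1) (hb1 s2) (hb1 s3) (fun g => hmv ((fix_conj_iff a y₀ U₁).1 g))
    have e : ∀ M : Subgroup L, b • (c y • M) = c y • M ↔ a • (c (y₀ * y) • M) = c (y₀ * y) • M := by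
      intro M
      rw [hb, fix_conj_iff a y₀ (c y • M), smul_smul (c y₀), ← map_mul]
    rcases alt' (y₀ * y) with g | g | g
    · have g' := (e U₁).2 g
      rw [c_smul_self hy] at g'
      exact hmv ((fix_conj_iff a y₀ U₁).1 g')
    · exact g2 ((e U₂).2 g)
    · exact g3 ((e U₃).2 g)
  · -- some class is moved
    refine no_moved hna ha ![U₁, U₂, U₃] ?_ ?_ (fun y => ?_) ?_
    · intro i
      fin_cases i <;> assumption
    · intro i j hij y
      fin_cases i <;> fin_cases j
      · exact absurd rfl hij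
      · exact n12 y
      · exact n13 y
      · exact n21 y
      · exact absurd rfl hij
      · exact n23 y
      · exact n31 y
      · exact n32 y
      · exact absurd rfl hij
    · have idx : ∀ M ∈ ({U₁, U₂, U₃} : Set (Subgroup L)), ∃ i : Fin 3, M = ![U₁, U₂, U₃] i := by
        intro M hM
        rcases hM with g | g | g
        · exact ⟨0, g⟩
        · exact ⟨1, g⟩
        · exact ⟨2, g⟩
      have mem : ∀ i : Fin 3, ![U₁, U₂, U₃] i ∈ ({U₁, U₂, U₃} : Set (Subgroup L)) := by
        intro i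
        fin_cases i
        · exact Or.inl rfl
        · exact Or.inr (Or.inl rfl)
        · exact Or.inr (Or.inr rfl)
      obtain ⟨M, hM, g | g⟩ := alt y
      · obtain ⟨i, rfl⟩ := idx M hM
        exact Or.inl ⟨i, g⟩
      · right
        intro i
        obtain ⟨N', hN', g'⟩ := g _ (mem i)
        obtain ⟨j, rfl⟩ := idx N' hN'
        exact ⟨j, g'⟩
    · by_contra hcon2
      push Not at hcon2
      exact hT ⟨hcon2 0, hcon2 1, hcon2 2⟩

section up

/-! ### transport along a surjection `f : G →* L` (matrix group onto simple group) -/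

variable {G : Type*} [Group G]

theorem comap_ne_top {f : G →* L} (hf : Function.Surjective f) {K : Subgroup L} (hK : K ≠ ⊤) : K.comap f ≠ ⊤ := by
  intro htop
  apply hK
  rw [← Subgroup.map_comap_eq_self_of_surjective hf K, htop, Subgroup.map_top_of_surjective f hf]

theorem ker_le_comap (f : G →* L) (K : Subgroup L) : f.ker ≤ K.comap f := by
  intro x hx
  rw [MonoidHom.mem_ker] at hx
  rw [Subgroup.mem_comap, hx]
  exact K.one_mem

theorem comap_map_of_ker {f : G →* L} {M : Subgroup G} (h : f.ker ≤ M) : (M.map f).comap f = M := by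
  rw [Subgroup.comap_map_eq, sup_eq_left.2 h]

theorem map_ne_top {f : G →* L} {M : Subgroup G} (h : f.ker ≤ M) (hM : M ≠ ⊤) : M.map f ≠ ⊤ := by
  intro htop
  apply hM
  rw [← comap_map_of_ker h, htop, Subgroup.comap_top]

/-- the classification of the overgroups passes down -/
theorem over_up {f : G →* L} (hf : Function.Surjective f) {s : G} {𝓜 : Set (Subgroup G)}
    (h : ∀ K : Subgroup G, f.ker ≤ K → s ∈ K → K ≠ ⊤ → ∃ M ∈ 𝓜, K ≤ M) :
    ∀ K : Subgroup L, f s ∈ K → K ≠ ⊤ → ∃ M ∈ 𝓜, K ≤ M.map f := by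
  intro K hs hK
  obtain ⟨M, hM, g⟩ := h (K.comap f) (ker_le_comap f K) hs (comap_ne_top hf hK)
  refine ⟨M, hM, ?_⟩
  rw [← Subgroup.map_comap_eq_self_of_surjective hf K]
  exact Subgroup.map_mono g

theorem map_inf_le {f : G →* L} {A B C : Subgroup G} (hA : f.ker ≤ A) (h : A ⊓ B ≤ C) :
    A.map f ⊓ B.map f ≤ C.map f := by
  rintro x ⟨hx1, b, hb, rfl⟩
  have h1 : b ∈ (A.map f).comap f := hx1
  rw [comap_map_of_ker hA] at h1
  exact ⟨b, h ⟨h1, hb⟩, rfl⟩

theorem isCoatom_map {f : G →* L} (hf : Function.Surjective f) {M : Subgroup G} (hM : IsCoatom M) (h : f.ker ≤ M) :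
    IsCoatom (M.map f) := by
  refine ⟨map_ne_top h hM.1, fun K hK => ?_⟩
  by_contra hne
  have h1 : M < K.comap f := by
    refine lt_of_le_of_ne ?_ ?_
    · rw [← comap_map_of_ker h]
      exact Subgroup.comap_mono hK.le
    · intro he
      apply hK.ne
      rw [he, Subgroup.map_comap_eq_self_of_surjective hf]
  exact comap_ne_top hf hne (hM.2 _ h1)

theorem c_smul_map (f : G →* L) (y : G) (M : Subgroup G) :
    c (f y) • (M.map f) = (M.map (MulAut.conj y).toMonoidHom).map f := by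
  change (M.map f).map (MulAut.conj (f y)).toMonoidHom = _
  rw [Subgroup.map_map, Subgroup.map_map]
  congr 1
  ext x
  simp [MulAut.conj_apply]

/-- not conjugate upstairs, not conjugate downstairs -/
theorem not_conj_up {f : G →* L} (hf : Function.Surjective f) {A B : Subgroup G} (hA : f.ker ≤ A) (hB : f.ker ≤ B)
    (h : ∀ y : G, A.map (MulAut.conj y).toMonoidHom ≠ B) (y : L) : c y • (A.map f) ≠ B.map f := by
  obtain ⟨z, rfl⟩ := hf y
  intro hy
  rw [c_smul_map] at hy
  apply h z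
  have hker : f.ker ≤ A.map (MulAut.conj z).toMonoidHom := by
    intro x hx
    refine ⟨z⁻¹ * x * z, hA ?_, ?_⟩
    · rw [MonoidHom.mem_ker] at hx ⊢
      rw [map_mul, map_mul, hx, mul_one, map_inv, inv_mul_cancel]
    · change z * (z⁻¹ * x * z) * z⁻¹ = x
      group
  rw [← comap_map_of_ker hker, hy, comap_map_of_ker hB]

end up

end Cfsg.Agent.H938.Spr
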